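import Groth.Agent.VarietyA.GeomRedAlg
import Mathlib.RingTheory.TensorProduct.IncludeLeftSubRight
import Mathlib.FieldTheory.Perfect

/-!
# Elements of an extension of fields of characteristic zero fixed by all pairs of embeddings
-/

set_option autoImplicit false

universe u

open TensorProduct

namespace K285.FieldEq

/-- `K ⊆ L` fields of characteristic zero, `f ∈ L`; if any two ring maps from `L` to an
algebraically closed field which agree on `K` agree on `f`, then `f ∈ K`. -/
theorem mem_range_of_forall {K L : Type u} [Field K] [Field L] [Algebra K L] [CharZero K] (f : L)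
    (h : ∀ (Ω : Type u) [Field Ω] [IsAlgClosed Ω] (a b : L →+* Ω),
      a.comp (algebraMap K L) = b.comp (algebraMap K L) → a f = b f) :
    f ∈ Set.range (algebraMap K L) := by
  have hg : Algebra.IsGeometricallyReduced K L :=
    Groth.Agent.VarietyA.GeomRedAlg.isGeometricallyReduced_of_perfectField (k := K) (A := L)
  have hred : IsReduced (L ⊗[K] L) :=
    Groth.Agent.VarietyA.GeomRedAlg.isReduced_tensorProduct (k := K) (A := L) (B := L)
  have heff : Algebra.IsEffective K L := Algebra.IsEffective.of_faithfullyFlat K L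
  rw [← heff.eqLocus_includeLeft_includeRight]
  change (f ⊗ₜ[K] (1 : L) : L ⊗[K] L) = (1 : L) ⊗ₜ[K] f
  rw [← sub_eq_zero]
  apply IsReduced.eq_zero
  rw [nilpotent_iff_mem_prime]
  intro q hq
  let Ω := AlgebraicClosure q.ResidueField
  let π : L ⊗[K] L →+* Ω := (algebraMap q.ResidueField Ω).comp (algebraMap (L ⊗[K] L) q.ResidueField)
  let a : L →+* Ω := π.comp Algebra.TensorProduct.includeLeftRingHom
  let b : L →+* Ω := π.comp (Algebra.TensorProduct.includeRight (R := K) (A := L) (B := L)).toRingHom
  have hab : a.comp (algebraMap K L) = b.comp (algebraMap K L) := by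
    ext x
    change π (algebraMap K L x ⊗ₜ 1) = π (1 ⊗ₜ algebraMap K L x)
    congr 1
    rw [Algebra.algebraMap_eq_smul_one, TensorProduct.smul_tmul]
  have h1 := h Ω a b hab
  have h2 : π (f ⊗ₜ 1 - 1 ⊗ₜ f) = 0 := by
    rw [map_sub, sub_eq_zero]
    exact h1
  have h3 : algebraMap (L ⊗[K] L) q.ResidueField (f ⊗ₜ 1 - 1 ⊗ₜ f) = 0 :=
    (algebraMap q.ResidueField Ω).injective (by rw [map_zero]; exact h2)
  rwa [Ideal.algebraMap_residueField_eq_zero] at h3

end K285.FieldEq
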