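import Groth.Agent.Lipman.Loc
import Groth.Agent.GIT.K285.FieldEq
import Groth.Agent.Ega4dB.CDivNormal
import Mathlib.AlgebraicGeometry.Stalk
import Mathlib.AlgebraicGeometry.FunctionField
import Mathlib.AlgebraicGeometry.Morphisms.UnderlyingMap
import Mathlib.RingTheory.Valuation.ValuationRing

/-!
# Function fields under dominant morphisms

`ff f : K(Y) ⟶ K(X)` for a dominant morphism of integral schemes; compatibility with germs; a section
over `f⁻¹ U` whose germ comes from `K(Y)` comes from a section over `U`, if `f` is surjective over `U`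
and `Y` is normal and locally Noetherian.
-/

set_option autoImplicit false

universe u

open CategoryTheory AlgebraicGeometry TopologicalSpace IsLocalRing

namespace K285.FieldMap

open Groth.Agent.Lipman.Loc

variable {X Y : Scheme.{u}} [IsIntegral X] [IsIntegral Y] (f : X ⟶ Y) [IsDominant f]

theorem map_gen : f (genericPoint X) = genericPoint Y := by
  apply ((genericPoint_spec X).image f.continuous).eq
  have h2 : closure (f '' Set.univ) = (⊤ : Set Y) := by
    rw [Set.image_univ]
    exact f.denseRange.closure_range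
  rw [h2]
  exact genericPoint_spec Y

/-- The map of function fields. -/
noncomputable def ff : Y.functionField ⟶ X.functionField :=
  Y.presheaf.stalkSpecializes (specializes_of_eq (map_gen f)) ≫ f.stalkMap (genericPoint X)

theorem algebraMap_eq (x : X) :
    CommRingCat.ofHom (algebraMap (X.presheaf.stalk x) X.functionField) =
      X.presheaf.stalkSpecializes (genericPoint_specializes x) := rfl

theorem ff_algebraMap (x : X) (r : Y.presheaf.stalk (f x)) :
    (ff f) (algebraMap (Y.presheaf.stalk (f x)) Y.functionField r) =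
      algebraMap (X.presheaf.stalk x) X.functionField (f.stalkMap x r) := by
  have h1 : Y.presheaf.stalkSpecializes (genericPoint_specializes (f x)) ≫ ff f =
      f.stalkMap x ≫ X.presheaf.stalkSpecializes (genericPoint_specializes x) := by
    rw [ff, ← Category.assoc, TopCat.Presheaf.stalkSpecializes_comp]
    exact Scheme.Hom.stalkSpecializes_stalkMap f _ _ (genericPoint_specializes x)
  exact congrArg (fun k => k.hom r) h1

theorem gen_mem_preimage (U : Y.Opens) [hU : Nonempty U] : genericPoint X ∈ f ⁻¹ᵁ U := by
  change f (genericPoint X) ∈ U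
  rw [map_gen]
  exact mem_of_nonempty

instance nonempty_preimage (U : Y.Opens) [hU : Nonempty U] : Nonempty (f ⁻¹ᵁ U) :=
  ⟨⟨_, gen_mem_preimage f U⟩⟩

theorem ff_germ (U : Y.Opens) [hU : Nonempty U] (s : Γ(Y, U)) :
    (ff f) (Y.germToFunctionField U s) = X.germToFunctionField (f ⁻¹ᵁ U) (f.app U s) := by
  have hx : f (genericPoint X) ∈ U := gen_mem_preimage f U
  have h1 := ff_algebraMap f (genericPoint X) (Y.presheaf.germ U _ hx s)
  have h2 := Scheme.Hom.germ_stalkMap_apply f U (genericPoint X) hx s
  rw [Scheme.algebraMap_germ_eq_germToFunctionField Y hx] at h1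
  rw [h1]
  exact (congrArg (X.presheaf.stalkSpecializes
      (genericPoint_specializes (genericPoint X))).hom h2).trans
    (Scheme.algebraMap_germ_eq_germToFunctionField X (gen_mem_preimage f U) (f.app U s))

theorem app_injective (U : Y.Opens) [hU : Nonempty U] : Function.Injective (f.app U) := by
  intro s t hst
  apply Scheme.germToFunctionField_injective Y U
  apply (ff f).hom.injective
  change (ff f) _ = (ff f) _
  rw [ff_germ, ff_germ, hst]

/-- If a section `s` over `f⁻¹ U` has germ `h ∈ K(Y)` and `f` is surjective over `U`, `Y` normal, then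
`s` comes from `Γ(Y, U)`. -/
theorem mem_range_app [IsLocallyNoetherian Y] (hY : ∀ y : Y, IsIntegrallyClosed (Y.presheaf.stalk y))
    (U : Y.Opens) [hU : Nonempty U] (hs : ∀ y ∈ U, ∃ x : X, f x = y) (s : Γ(X, f ⁻¹ᵁ U))
    (h : Y.functionField) (hh : (ff f) h = X.germToFunctionField (f ⁻¹ᵁ U) s) :
    s ∈ Set.range (f.app U) := by
  have key : ∀ y ∈ U, h ∈ loc y := by
    intro y hy
    by_contra hcon
    have h0 : h ≠ 0 := fun h0 => hcon (h0 ▸ Subring.zero_mem _)
    obtain ⟨y', hy', hdvr, hco, hord⟩ :=
      Groth.Agent.Ega4dB.CDivNormal.exists_ord_neg hY y h h0 hcon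
    have hyU : y' ∈ U := hy'.mem_open U.2 hy
    have hnot : h ∉ loc y' := by
      intro hmem
      have := Groth.Agent.Ega4dB.CDivNormal.ord_nonneg_of_mem_range y' h h0 hmem
      omega
    obtain ⟨x', rfl⟩ := hs y' hyU
    obtain ⟨t, ht⟩ : ∃ t, algebraMap (Y.presheaf.stalk (f x')) Y.functionField t = h⁻¹ := by
      rcases ValuationRing.isInteger_or_isInteger (Y.presheaf.stalk (f x')) h with h1 | h1
      · exact absurd h1 hnot
      · exact h1
    have htm : ¬ IsUnit t := by
      rintro ⟨v, rfl⟩
      apply hnot
      refine ⟨((v⁻¹ : (Y.presheaf.stalk (f x'))ˣ) : Y.presheaf.stalk (f x')), ?_⟩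
      have h2 : algebraMap (Y.presheaf.stalk (f x')) Y.functionField v *
          algebraMap (Y.presheaf.stalk (f x')) Y.functionField
            ((v⁻¹ : (Y.presheaf.stalk (f x'))ˣ) : Y.presheaf.stalk (f x')) = 1 := by
        rw [← map_mul, Units.mul_inv, map_one]
      rw [ht] at h2
      field_simp at h2
      exact h2
    apply htm
    rw [← isUnit_map_iff (f.stalkMap x').hom]
    refine IsUnit.of_mul_eq_one (X.presheaf.germ _ x' (show x' ∈ f ⁻¹ᵁ U from hyU) s) ?_
    apply inj x'
    rw [map_mul, map_one]
    change algebraMap _ _ (f.stalkMap x' t) * _ = 1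
    rw [← ff_algebraMap, ht, Scheme.algebraMap_germ_eq_germToFunctionField X, ← hh]
    change (ff f).hom _ * (ff f).hom _ = 1
    rw [← map_mul, inv_mul_cancel₀ h0, map_one]
  obtain ⟨t, ht⟩ := exists_section U h key
  refine ⟨t, ?_⟩
  apply Scheme.germToFunctionField_injective X (f ⁻¹ᵁ U)
  rw [← ff_germ, ht, hh]

end K285.FieldMap
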