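import Groth.Agent.GIT.K285.Orbit
import Groth.Agent.GIT.K285.FieldMap

/-!
# Invariant sections come from the base when geometric fibres contain at most one orbit
-/

set_option autoImplicit false

universe u

open CategoryTheory MonoidalCategory CartesianMonoidalCategory MonObj AlgebraicGeometry Topology
open TopologicalSpace

namespace K285.Inv

open K285.Orbit K285.FieldMap Groth.Agent.Lipman.Loc

/-- The point of `X` with values in `Ω` given by `a : K(X) → Ω`. -/
noncomputable def pt (X : Scheme.{u}) [IsIntegral X] {Ω : Type u} [Field Ω]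
    (a : X.functionField →+* Ω) : Spec (CommRingCat.of Ω) ⟶ X :=
  Spec.map (CommRingCat.ofHom a) ≫ X.fromSpecStalk (genericPoint X)

theorem pt_apply (X : Scheme.{u}) [IsIntegral X] {Ω : Type u} [Field Ω]
    (a : X.functionField →+* Ω) (z : Spec (CommRingCat.of Ω)) : pt X a z = genericPoint X := by
  have h1 : genericPoint X ⤳ pt X a z := genericPoint_specializes _
  have h2 : pt X a z ⤳ genericPoint X := by
    have : pt X a z ∈ Set.range (X.fromSpecStalk (genericPoint X)) :=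
      ⟨_, (Scheme.Hom.comp_apply _ _ z).symm⟩
    rw [Scheme.range_fromSpecStalk] at this
    exact this
  exact (h2.antisymm h1).eq

theorem le_preimage_pt (X : Scheme.{u}) [IsIntegral X] {Ω : Type u} [Field Ω]
    (a : X.functionField →+* Ω) (W : X.Opens) [Nonempty W] : ⊤ ≤ pt X a ⁻¹ᵁ W := by
  intro z _
  change pt X a z ∈ W
  rw [pt_apply]
  exact mem_of_nonempty

theorem appLE_pt (X : Scheme.{u}) [IsIntegral X] {Ω : Type u} [Field Ω]
    (a : X.functionField →+* Ω) (W : X.Opens) [Nonempty W] (s : Γ(X, W)) :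
    (pt X a).appLE W ⊤ (le_preimage_pt X a W) s =
      (Scheme.ΓSpecIso (CommRingCat.of Ω)).inv (a (X.germToFunctionField W s)) := by
  have h : (pt X a).appLE W ⊤ (le_preimage_pt X a W) =
      X.germToFunctionField W ≫ CommRingCat.ofHom a ≫
        (Scheme.ΓSpecIso (CommRingCat.of Ω)).inv := by
    have e1 : ⊤ ≤ X.fromSpecStalk (genericPoint X) ⁻¹ᵁ W := by
      intro z _
      have : X.fromSpecStalk (genericPoint X) z ⤳ genericPoint X := by
        have : X.fromSpecStalk (genericPoint X) z ∈ Set.range (X.fromSpecStalk (genericPoint X)) :=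
          ⟨_, rfl⟩
        rwa [Scheme.range_fromSpecStalk] at this
      exact this.mem_open W.2 mem_of_nonempty
    have h1 : (X.fromSpecStalk (genericPoint X)).appLE W ⊤ e1 =
        X.germToFunctionField W ≫ (Scheme.ΓSpecIso (X.functionField)).inv := by
      rw [Scheme.Hom.appLE, Scheme.fromSpecStalk_app (mem_of_nonempty (V := W)), Category.assoc,
        Category.assoc, ← Functor.map_comp]
      have : (homOfLE (le_top : X.fromSpecStalk (genericPoint X) ⁻¹ᵁ W ≤ ⊤)).op ≫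
          (homOfLE e1).op = 𝟙 _ := Subsingleton.elim _ _
      rw [this, CategoryTheory.Functor.map_id, Category.comp_id]
    have e2 : (⊤ : (Spec (CommRingCat.of Ω)).Opens) ≤
        (Spec.map (CommRingCat.ofHom a)) ⁻¹ᵁ ⊤ := le_rfl
    have h2 : (pt X a).appLE W ⊤ (le_preimage_pt X a W) =
        (X.fromSpecStalk (genericPoint X)).appLE W ⊤ e1 ≫
          (Spec.map (CommRingCat.ofHom a)).appLE ⊤ ⊤ e2 :=
      (Scheme.Hom.appLE_comp_appLE _ _ _ _ _ _ _).symm
    have h3 : (Spec.map (CommRingCat.ofHom a)).appLE ⊤ ⊤ e2 =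
        (Spec.map (CommRingCat.ofHom a)).appTop := Scheme.Hom.appLE_eq_app _
    rw [h2, h1, Category.assoc, h3]
    congr 1
    exact (Scheme.ΓSpecIso_inv_naturality (CommRingCat.ofHom a)).symm
  rw [h]
  rfl

variable {S : Scheme.{u}} {G : Over S} [GrpObj G] {X Y : Over S} {a : AlgGrp.Action G X} {φ : X ⟶ Y}

theorem pt_comp {X Y : Scheme.{u}} [IsIntegral X] [IsIntegral Y] (f : X ⟶ Y) [IsDominant f]
    {Ω : Type u} [Field Ω] (b : X.functionField →+* Ω) :
    pt X b ≫ f = pt Y (b.comp (ff f).hom) := by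
  rw [pt, Category.assoc, ← Scheme.SpecMap_stalkMap_fromSpecStalk,
    ← Scheme.SpecMap_stalkSpecializes_fromSpecStalk (specializes_of_eq (map_gen f)), pt,
    ← Category.assoc, ← Category.assoc, ← Spec.map_comp, ← Spec.map_comp]
  rfl

theorem eq_of_isInvSection [IsIntegral X.left] [IsIntegral Y.left] [IsDominant φ.left]
    (h : OneOrbit a φ) (U : Y.left.Opens) [Nonempty U] (s : Γ(X.left, φ.left ⁻¹ᵁ U))
    (hs : GIT.IsInvSection a φ U s) {Ω : Type u} [Field Ω] [IsAlgClosed Ω]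
    (b c : X.left.functionField →+* Ω) (hbc : b.comp (ff φ.left).hom = c.comp (ff φ.left).hom) :
    b (X.left.germToFunctionField (φ.left ⁻¹ᵁ U) s) =
      c (X.left.germToFunctionField (φ.left ⁻¹ᵁ U) s) := by
  have hpq : pt X.left b ≫ φ.left = pt X.left c ≫ φ.left := by rw [pt_comp, pt_comp, hbc]
  let T : Over S := Over.mk (pt X.left b ≫ X.hom)
  let x₁ : T ⟶ X := Over.homMk (pt X.left b) rfl
  have h2 : pt X.left c ≫ X.hom = pt X.left b ≫ X.hom := by
    rw [← Over.w φ, ← Category.assoc, ← hpq, Category.assoc]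
  let x₂ : T ⟶ X := Over.homMk (pt X.left c) h2
  obtain ⟨g, hg⟩ := h Ω T (Iso.refl _) x₁ x₂ (by ext1; exact hpq)
  obtain ⟨q, hq1, hq2⟩ : ∃ q : Spec (CommRingCat.of Ω) ⟶ (G ⊗ X).left,
      q ≫ a.act.left = pt X.left b ∧ q ≫ (snd G X).left = pt X.left c := by
    refine ⟨(lift g x₂).left, ?_, ?_⟩
    · rw [← Over.comp_left, hg]; rfl
    · rw [← Over.comp_left, lift_snd]; rfl
  have e : ⊤ ≤ q ⁻¹ᵁ (a.act.left ⁻¹ᵁ (φ.left ⁻¹ᵁ U) ⊓ (snd G X).left ⁻¹ᵁ (φ.left ⁻¹ᵁ U)) := by
    intro z hz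
    constructor
    · change a.act.left (q z) ∈ φ.left ⁻¹ᵁ U
      rw [← Scheme.Hom.comp_apply, hq1]
      exact le_preimage_pt X.left b (φ.left ⁻¹ᵁ U) hz
    · change (snd G X).left (q z) ∈ φ.left ⁻¹ᵁ U
      rw [← Scheme.Hom.comp_apply, hq2]
      exact le_preimage_pt X.left c (φ.left ⁻¹ᵁ U) hz
  have key := congrArg (fun t => q.appLE _ ⊤ e t) hs
  have h3 : ∀ (r : Spec (CommRingCat.of Ω) ⟶ X.left) (p : (G ⊗ X).left ⟶ X.left) (hr : q ≫ p = r)
      (V : (G ⊗ X).left.Opens) (e₁ : V ≤ p ⁻¹ᵁ (φ.left ⁻¹ᵁ U)) (e₂ : ⊤ ≤ q ⁻¹ᵁ V)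
      (e₃ : ⊤ ≤ r ⁻¹ᵁ (φ.left ⁻¹ᵁ U)),
      q.appLE V ⊤ e₂ (p.appLE (φ.left ⁻¹ᵁ U) V e₁ s) = r.appLE (φ.left ⁻¹ᵁ U) ⊤ e₃ s := by
    intro r p hr V e₁ e₂ e₃
    subst hr
    rw [← Scheme.Hom.appLE_comp_appLE q p (φ.left ⁻¹ᵁ U) V ⊤ e₁ e₂]
    rfl
  have h4 := (h3 _ _ hq1 _ inf_le_left e (le_preimage_pt X.left b _)).symm.trans
    (key.trans (h3 _ _ hq2 _ inf_le_right e (le_preimage_pt X.left c _)))
  rw [appLE_pt, appLE_pt] at h4
  have : Function.Injective (Scheme.ΓSpecIso (CommRingCat.of Ω)).inv :=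
    ((CategoryTheory.forget CommRingCat).mapIso (Scheme.ΓSpecIso (CommRingCat.of Ω)).symm).toEquiv.injective
  exact this h4

theorem mem_range_app [IsIntegral X.left] [IsIntegral Y.left] [IsDominant φ.left]
    [IsLocallyNoetherian Y.left] [CharZero Y.left.functionField]
    (hY : ∀ y : Y.left, IsIntegrallyClosed (Y.left.presheaf.stalk y))
    (h : OneOrbit a φ) (U : Y.left.Opens) [Nonempty U] (hU : ∀ y ∈ U, ∃ x : X.left, φ.left x = y)
    (s : Γ(X.left, φ.left ⁻¹ᵁ U)) (hs : GIT.IsInvSection a φ U s) :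
    s ∈ Set.range (φ.left.app U) := by
  let : Algebra Y.left.functionField X.left.functionField := (ff φ.left).hom.toAlgebra
  obtain ⟨t, ht⟩ := K285.FieldEq.mem_range_of_forall (K := Y.left.functionField)
    (L := X.left.functionField) (X.left.germToFunctionField (φ.left ⁻¹ᵁ U) s)
    fun Ω _ _ b c hbc => eq_of_isInvSection h U s hs b c hbc
  exact K285.FieldMap.mem_range_app φ.left hY U hU s t ht

end K285.Inv
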