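import Groth.Agent.GIT.K285.Inv

/-!
# Geometric quotients from one-orbit fibres in characteristic zero
-/

set_option autoImplicit false

universe u

open CategoryTheory MonoidalCategory CartesianMonoidalCategory MonObj AlgebraicGeometry Topology
open TopologicalSpace

namespace K285.GITMain

open K285.Orbit

/-- universally open surjective morphisms are universally submersive -/
theorem isUnivSubmersive_of_universallyOpen {X Y : Scheme.{u}} (f : X ⟶ Y) [UniversallyOpen f]
    [Surjective f] : GIT.IsUnivSubmersive f := by
  intro X' Y' i₁ i₂ f' H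
  have h1 : UniversallyOpen f' := MorphismProperty.of_isPullback H.flip ‹_›
  have h2 : Surjective f' := MorphismProperty.of_isPullback H.flip ‹_›
  exact IsOpenQuotientMap.isQuotientMap ⟨h2.1, f'.continuous, f'.isOpenMap⟩

variable {S : Scheme.{u}} {G : Over S} [GrpObj G] {X Y : Over S}

theorem isGeomQuot (a : AlgGrp.Action G X) (φ : X ⟶ Y) [IsIntegral X.left] [IsIntegral Y.left]
    [IsLocallyNoetherian Y.left] [CharZero Y.left.functionField] [UniversallyOpen φ.left]
    [Surjective φ.left]
    (hY : ∀ y : Y.left, IsIntegrallyClosed (Y.left.presheaf.stalk y))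
    (hi : GIT.IsInvariant a φ) (h : OneOrbit a φ) : GIT.IsGeomQuot a φ where
  inv := hi
  surj := φ.left.surjective
  orbit := surjective_PsiY hi h
  subm := isUnivSubmersive_of_universallyOpen φ.left
  sections U := by
    rcases isEmpty_or_nonempty U with hU | hU
    · have h1 : U = ⊥ := by
        ext z
        exact ⟨fun hz => (hU.false ⟨z, hz⟩).elim, fun hz => hz.elim⟩
      subst h1
      have h3 : Subsingleton Γ(Y.left, ⊥) := inferInstance
      have h2 : Subsingleton Γ(X.left, φ.left ⁻¹ᵁ ⊥) :=
        inferInstanceAs (Subsingleton Γ(X.left, ⊥))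
      refine ⟨fun s t _ => Subsingleton.elim _ _, ?_⟩
      ext s
      refine ⟨fun _ => ?_, fun _ => ⟨0, Subsingleton.elim _ _⟩⟩
      change _ = _
      have h4 : s = 0 := Subsingleton.elim _ _
      rw [h4, map_zero, map_zero]
    · refine ⟨K285.FieldMap.app_injective φ.left U, Set.Subset.antisymm ?_ ?_⟩
      · rintro _ ⟨t, rfl⟩
        change (a.act.left.appLE _ _ _) _ = ((snd G X).left.appLE _ _ _) _
        rw [← CommRingCat.comp_apply, ← CommRingCat.comp_apply, Scheme.Hom.app_eq_appLE,
          Scheme.Hom.appLE_comp_appLE, Scheme.Hom.appLE_comp_appLE]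
        simp only [hi.left]
      · intro s hs
        exact K285.Inv.mem_range_app hY h U (fun y _ => φ.left.surjective y) s hs

end K285.GITMain
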