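import Groth.Agent.EGA43.K125.DimConds
import Groth.Agent.S9358
import Groth.Agent.S3388
import Groth.Agent.S2568
import Groth.Agent.S9812
import Groth.Agent.Ega43.H133.OpenAt
import Mathlib.AlgebraicGeometry.Morphisms.UniversallyClosed

/-!
# Universal openness from the openness of `X ×_Y X ⟶ X`

`universallyOpen_of_comp_surjective`: if `f ≫ g` is universally open and `f` is surjective then `g`
is universally open.
`fibreDimAt_le`: if `X` is irreducible, `f : X ⟶ Y` is locally of finite type and the second
projection `X ×_Y X ⟶ X` is universally open then the local dimensions of the fibres of `f` are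
bounded by the dimension of the fibre over the image of the generic point.
`universallyOpen_of_snd`: if moreover `Y` is integral and normal and `f` is dominant then `f` is
universally open.
-/

set_option autoImplicit false

universe u

open CategoryTheory Limits AlgebraicGeometry TopologicalSpace

namespace K285.OpenDim

open Groth.Agent.CycB.RelDim

theorem universallyOpen_of_comp_surjective {X Y Z : Scheme.{u}} (f : X ⟶ Y) (g : Y ⟶ Z)
    [UniversallyOpen (f ≫ g)] [Surjective f] : UniversallyOpen g := by
  constructor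
  intro X' Y' i₁ i₂ f' H
  have := UniversallyOpen.universally_isOpenMap _ _ _
    ((IsPullback.of_hasPullback i₁ f).paste_horiz H)
  have hs : Function.Surjective (pullback.fst i₁ f) :=
    (inferInstance : Surjective (pullback.fst i₁ f)).1
  intro U hU
  have h1 : IsOpen ((pullback.fst i₁ f ≫ f') '' (pullback.fst i₁ f ⁻¹' U)) :=
    this _ (hU.preimage (Scheme.Hom.continuous _))
  have h2 : (pullback.fst i₁ f ≫ f') '' (pullback.fst i₁ f ⁻¹' U) = f' '' U := by
    rw [Scheme.Hom.comp_base]
    change (f' ∘ pullback.fst i₁ f) '' _ = _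
    rw [Set.image_comp, Set.image_preimage_eq _ hs]
  rw [h2] at h1
  exact h1

variable {X Y : Scheme.{u}} (f : X ⟶ Y)

/-- a point of maximal transcendence degree in the fibre through `x`, specializing to `x` -/
theorem exists_rtd_eq [LocallyOfFiniteType f] (x : X) :
    ∃ (z : X) (d : ℕ), z ⤳ x ∧ f z = f x ∧ (∀ z' : X, z' ⤳ z → f z' = f z → z' = z) ∧
      rtd f z = d ∧ FlatMor.fibreDimAt f x = d := by
  obtain ⟨d, hd⟩ := Groth.Agent.Ega43.FibreDimNat.exists_natCast_fibreDimAt f x
  have key : ∃ z : X, z ⤳ x ∧ f z = f x ∧ (d : Cardinal) ≤ rtd f z := by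
    by_contra hcon
    push Not at hcon
    rcases Nat.eq_zero_or_pos d with h0 | h0
    · exact absurd (hcon x specializes_rfl rfl) (by rw [h0]; simp)
    · have := Groth.Agent.VarietyA.LocDim.fibreDimAt_le f x (d - 1) fun z hz hfz => by
        obtain ⟨e, he⟩ := Cardinal.lt_aleph0.mp (rtd_lt_aleph0 f z)
        have h1 := hcon z hz hfz
        rw [he] at h1 ⊢
        have h2 : e < d := by exact_mod_cast h1
        exact_mod_cast (by omega : e ≤ d - 1)
      rw [hd] at this
      have h3 : d ≤ d - 1 := by exact_mod_cast this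
      omega
  obtain ⟨z, hz, hfz, hdz⟩ := key
  obtain ⟨w, hw, hfw, hwmax⟩ := Groth.Agent.Ega43.OpenUniv.exists_maximal_in_fibre f z
  have h1 : rtd f z ≤ rtd f w := Groth.Agent.VarietyA.LocDim.rtd_le_of_specializes f hw hfw
  obtain ⟨e, he, he'⟩ := Groth.Agent.VarietyA.LocDim.le_fibreDimAt f x w (hw.trans hz)
    (hfw.trans hfz)
  refine ⟨w, d, hw.trans hz, hfw.trans hfz, hwmax, ?_, hd⟩
  rw [hd] at he'
  rw [he] at h1 ⊢
  have h2 : d ≤ e := by exact_mod_cast hdz.trans h1
  have h3 : e ≤ d := by exact_mod_cast he'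
  rw [le_antisymm h3 h2]

theorem fibreDimAt_le [IrreducibleSpace X] [LocallyOfFiniteType f]
    [UniversallyOpen (pullback.snd f f)] (x : X) :
    FlatMor.fibreDimAt f x ≤ topologicalKrullDim ↥(f.fiber (f (genericPoint X))) := by
  have hbc : ∀ w : ↥(pullback f f), FlatMor.fibreDimAt (pullback.snd f f) w =
      FlatMor.fibreDimAt f (pullback.fst f f w) :=
    (Groth.Agent.S9358.result f f (pullback.fst f f) (pullback.snd f f) (.of_hasPullback f f) 0).1
  obtain ⟨w₀, hw₀, -⟩ := Scheme.Pullback.exists_preimage_pullback (f := f) (g := f) x x rfl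
  have : LocallyOfFiniteType (pullback.snd f f) := inferInstance
  obtain ⟨w, d, hw, hwp, hwmax, hd, hd'⟩ := exists_rtd_eq (pullback.snd f f) w₀
  have H : EGA43.IsUnivOpenAt (pullback.snd f f) w :=
    Groth.Agent.Ega43.H133.OpenAt.isUnivOpenAt_of_universallyOpen _ w
  obtain ⟨v, hvw, hv, hle⟩ := K125.ValScheme.exists_rtd_le_of_isUnivOpenAt (pullback.snd f f) w
    hwmax H (genericPoint X) (genericPoint_specializes _)
  obtain ⟨n, hn, hn'⟩ := Groth.Agent.VarietyA.LocDim.le_fibreDimAt (pullback.snd f f) v v
    specializes_rfl rfl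
  have h1 : f (pullback.fst f f v) = f (genericPoint X) := by
    rw [← hv, ← Scheme.Hom.comp_apply, ← Scheme.Hom.comp_apply, pullback.condition]
  have h2 := K125.ValDim.fibreDimAt_le_topologicalKrullDim f (pullback.fst f f v) _ h1
  rw [← hw₀, ← hbc w₀, hd']
  rw [hbc v] at hn'
  refine le_trans ?_ (hn'.trans h2)
  rw [hd, hn] at hle
  exact_mod_cast hle

theorem universallyOpen_of_snd [IsIntegral X] [IsIntegral Y] [LocallyOfFiniteType f] [IsDominant f]
    (hY : ∀ y : Y, IsIntegrallyClosed (Y.presheaf.stalk y))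
    [UniversallyOpen (pullback.snd f f)] : UniversallyOpen f := by
  refine Groth.Agent.S2568.result (fun y => ?_) f fun x => le_antisymm (fibreDimAt_le f x) ?_
  · have := hY y
    exact Groth.Agent.S9812.result _
  · have := Groth.Agent.S3388.result f x
    have h : f (genericPoint X) = genericPoint Y := Groth.Agent.S3388.map_genericPoint f
    change topologicalKrullDim ↥(f.fiber (f (genericPoint X))) ≤ _
    rw [h]
    exact this

theorem isIntegrallyClosed_stalk [IsIntegral Y]
    (hY : ∀ U : Y.affineOpens, IsIntegrallyClosed Γ(Y, U)) (y : Y) :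
    IsIntegrallyClosed (Y.presheaf.stalk y) := by
  obtain ⟨V, hV, hyV, -⟩ := exists_isAffineOpen_mem_and_subset (x := y) (U := ⊤) trivial
  have := hY ⟨V, hV⟩
  have : Nonempty V := ⟨⟨y, hyV⟩⟩
  let : Algebra Γ(Y, V) (Y.presheaf.stalk y) :=
    TopCat.Presheaf.algebra_section_stalk Y.presheaf ⟨y, hyV⟩
  have := hV.isLocalization_stalk ⟨y, hyV⟩
  exact isIntegrallyClosed_of_isLocalization _ (hV.primeIdealOf ⟨y, hyV⟩).asIdeal.primeCompl
    (Ideal.primeCompl_le_nonZeroDivisors _)

end K285.OpenDim
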