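import Groth.Agent.GIT.K285.OpenDim
import Groth.Agent.GIT.K285.FieldEq
import Groth.Agent.GIT.K686.Orbit
import Groth.Prelude.Def_W4bk4git07Quot

/-!
# `PsiY` is surjective when geometric fibres contain at most one orbit
-/

set_option autoImplicit false

universe u

open CategoryTheory MonoidalCategory CartesianMonoidalCategory MonObj AlgebraicGeometry Topology

namespace K285.Orbit

variable {S : Scheme.{u}} {G : Over S} [GrpObj G] {X Y : Over S} {a : AlgGrp.Action G X} {φ : X ⟶ Y}

/-- every geometric fibre contains at most one orbit -/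
def OneOrbit (a : AlgGrp.Action G X) (φ : X ⟶ Y) : Prop :=
  ∀ (Ω : Type u) [Field Ω] [IsAlgClosed Ω] (T : Over S) (_ : T.left ≅ Spec (CommRingCat.of Ω))
    (x₁ x₂ : T ⟶ X), x₁ ≫ φ = x₂ ≫ φ → ∃ g : T ⟶ G, lift g x₂ ≫ a.act = x₁

theorem surjective_PsiY (hi : GIT.IsInvariant a φ) (h : OneOrbit a φ) :
    Function.Surjective (GIT.PsiY a φ hi).base := by
  intro w
  let Ω := AlgebraicClosure ((Limits.pullback φ.left φ.left).residueField w)
  obtain ⟨t, ht⟩ : ∃ t : Spec (CommRingCat.of Ω) ⟶ Limits.pullback φ.left φ.left, ∀ z, t z = w :=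
    ⟨Spec.map (CommRingCat.ofHom (algebraMap
      ((Limits.pullback φ.left φ.left).residueField w) Ω)) ≫
        (Limits.pullback φ.left φ.left).fromSpecResidueField w, fun z => by
      rw [Scheme.Hom.comp_apply]
      exact Scheme.fromSpecResidueField_apply w _⟩
  let T : Over S := Over.mk (t ≫ Limits.pullback.fst φ.left φ.left ≫ X.hom)
  let x₁ : T ⟶ X := Over.homMk (t ≫ Limits.pullback.fst φ.left φ.left) (by simp [T])
  have h2 : t ≫ Limits.pullback.snd φ.left φ.left ≫ X.hom =
      t ≫ Limits.pullback.fst φ.left φ.left ≫ X.hom := by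
    rw [← Over.w φ, Limits.pullback.condition_assoc]
  let x₂ : T ⟶ X := Over.homMk (t ≫ Limits.pullback.snd φ.left φ.left)
    (by simp only [T, Over.mk_hom, Category.assoc]; exact h2)
  have hx : x₁ ≫ φ = x₂ ≫ φ := by
    ext1
    simp only [Over.comp_left, x₁, x₂, Over.homMk_left, Category.assoc, Limits.pullback.condition]
  obtain ⟨g, hg⟩ := h Ω T (Iso.refl _) x₁ x₂ hx
  let z : Spec (CommRingCat.of Ω) := IsLocalRing.closedPoint Ω
  refine ⟨(lift g x₂).left z, ?_⟩
  have h3 : (lift g x₂).left ≫ GIT.PsiY a φ hi = t := by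
    apply Limits.pullback.hom_ext
    · rw [Category.assoc, K686.Orbit.PsiY_fst, ← Over.comp_left, hg]
      rfl
    · rw [Category.assoc, K686.Orbit.PsiY_snd, ← Over.comp_left, lift_snd]
      rfl
  change (GIT.PsiY a φ hi) ((lift g x₂).left z) = w
  rw [← Scheme.Hom.comp_apply, h3]
  exact ht z

/-- the second projection of `X ×_Y X` is universally open -/
theorem universallyOpen_snd [UniversallyOpen G.hom] (hi : GIT.IsInvariant a φ)
    (h : Function.Surjective (GIT.PsiY a φ hi).base) :
    UniversallyOpen (Limits.pullback.snd φ.left φ.left) := by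
  have h1 : UniversallyOpen (snd G X).left := by
    have : IsPullback (fst G X).left (snd G X).left G.hom X.hom :=
      IsPullback.of_hasPullback G.hom X.hom
    exact MorphismProperty.of_isPullback this inferInstance
  have : Surjective (GIT.PsiY a φ hi) := ⟨h⟩
  have : UniversallyOpen (GIT.PsiY a φ hi ≫ Limits.pullback.snd φ.left φ.left) := by
    rw [K686.Orbit.PsiY_snd]; exact h1
  exact K285.OpenDim.universallyOpen_of_comp_surjective (GIT.PsiY a φ hi) _

end K285.Orbit
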